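import Mathlib
import Cfsg.Prelude.Def_Transfer
import Cfsg.Agent.H79.CubeExtraspecial

/-!
An extraspecial group of order `11³` given by generators and relations inside a group, with three
normalising elements whose action makes all non-central elements conjugate.
-/

set_option autoImplicit false

namespace H68.J4Eleven

variable {G : Type*} [Group G]

/-- generators of the group of order `11³` and the action of the normalising elements -/
structure Data (G : Type*) [Group G] where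
  a : G
  b : G
  c : G
  nA : G
  nB : G
  f : G
  ha : a ^ 11 = 1
  hb : b ^ 11 = 1
  hc : c ^ 11 = 1
  hc1 : c ≠ 1
  hca : c * a = a * c
  hcb : c * b = b * c
  hba : b * a = a * b * c ^ 10
  Aa : nA * a * nA⁻¹ = a ^ 1 * b ^ 1 * c ^ 5
  Ab : nA * b * nA⁻¹ = a ^ 3 * b ^ 2 * c ^ 8
  Ac : nA * c * nA⁻¹ = a ^ 0 * b ^ 0 * c ^ 10
  Ba : nB * a * nB⁻¹ = a ^ 10 * b ^ 10 * c ^ 5
  Bb : nB * b * nB⁻¹ = a ^ 1 * b ^ 0 * c ^ 0
  Bc : nB * c * nB⁻¹ = a ^ 0 * b ^ 0 * c ^ 1
  fa : f * a * f⁻¹ = a ^ 9 * b ^ 0 * c ^ 0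
  fb : f * b * f⁻¹ = a ^ 0 * b ^ 9 * c ^ 0
  fc : f * c * f⁻¹ = a ^ 0 * b ^ 0 * c ^ 4

namespace Data

variable (D : Data G)

/-- normal form -/
def el (i j k : ℕ) : G := D.a ^ i * D.b ^ j * D.c ^ k

theorem comm_ca : Commute D.c D.a := D.hca
theorem comm_cb : Commute D.c D.b := D.hcb

theorem b_pow_a (j : ℕ) : D.b ^ j * D.a = D.a * D.b ^ j * D.c ^ (10 * j) := by
  induction j with
  | zero => simp
  | succ j ih =>
    rw [pow_succ, mul_assoc (D.b ^ j) D.b D.a, D.hba, ← mul_assoc, ← mul_assoc, ih,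
      mul_assoc (D.a * D.b ^ j) (D.c ^ (10 * j)) D.b,
      (D.comm_cb.pow_left (10 * j)).eq, ← mul_assoc, mul_assoc (D.a * D.b ^ j * D.b),
      ← pow_add, ← mul_assoc, show 10 * (j + 1) = 10 * j + 10 by ring]

theorem b_pow_a_pow (j l : ℕ) :
    D.b ^ j * D.a ^ l = D.a ^ l * D.b ^ j * D.c ^ (10 * j * l) := by
  induction l with
  | zero => simp
  | succ l ih =>
    rw [pow_succ, ← mul_assoc, ih, mul_assoc (D.a ^ l * D.b ^ j) (D.c ^ (10 * j * l)) D.a,
      (D.comm_ca.pow_left (10 * j * l)).eq, ← mul_assoc, mul_assoc (D.a ^ l) (D.b ^ j) D.a,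
      D.b_pow_a, ← mul_assoc, ← mul_assoc, mul_assoc, ← pow_add,
      show 10 * j * (l + 1) = 10 * j + 10 * j * l by ring]

theorem el_mul (i j k l m n : ℕ) :
    D.el i j k * D.el l m n = D.el (i + l) (j + m) (k + n + 10 * j * l) := by
  unfold el
  calc D.a ^ i * D.b ^ j * D.c ^ k * (D.a ^ l * D.b ^ m * D.c ^ n)
      = D.a ^ i * D.b ^ j * (D.c ^ k * D.a ^ l) * D.b ^ m * D.c ^ n := by group
    _ = D.a ^ i * (D.b ^ j * D.a ^ l) * (D.c ^ k * D.b ^ m) * D.c ^ n := by
        rw [(D.comm_ca.pow_pow k l).eq]; group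
    _ = D.a ^ i * D.a ^ l * D.b ^ j * (D.c ^ (10 * j * l) * D.b ^ m) * D.c ^ k * D.c ^ n := by
        rw [D.b_pow_a_pow, (D.comm_cb.pow_pow k m).eq]; group
    _ = D.a ^ (i + l) * (D.b ^ j * D.b ^ m) * (D.c ^ (10 * j * l) * D.c ^ k * D.c ^ n) := by
        rw [(D.comm_cb.pow_pow (10 * j * l) m).eq, pow_add]; group
    _ = D.a ^ (i + l) * D.b ^ (j + m) * D.c ^ (k + n + 10 * j * l) := by
        rw [← pow_add D.b, ← pow_add D.c, ← pow_add D.c,
          show 10 * j * l + k + n = k + n + 10 * j * l by ring]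

theorem el_zero : D.el 0 0 0 = 1 := by simp [el]

theorem el_congr {i j k i' j' k' : ℕ} (h1 : i % 11 = i' % 11) (h2 : j % 11 = j' % 11)
    (h3 : k % 11 = k' % 11) : D.el i j k = D.el i' j' k' := by
  unfold el
  rw [pow_eq_pow_mod i D.ha, pow_eq_pow_mod j D.hb, pow_eq_pow_mod k D.hc, h1, h2, h3,
    ← pow_eq_pow_mod i' D.ha, ← pow_eq_pow_mod j' D.hb, ← pow_eq_pow_mod k' D.hc]

theorem el_pow (i j k n : ℕ) :
    D.el i j k ^ n = D.el (n * i) (n * j) (n * k + 10 * i * j * n.choose 2) := by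
  induction n with
  | zero => simp [el]
  | succ n ih =>
    rw [pow_succ, ih, D.el_mul, Nat.choose_succ_succ', Nat.choose_one_right]
    congr 1 <;> ring

theorem el_pow_eleven (i j k : ℕ) : D.el i j k ^ 11 = 1 := by
  rw [D.el_pow, show Nat.choose 11 2 = 11 * 5 from by decide, ← D.el_zero]
  apply D.el_congr
  · simp
  · simp
  · rw [show 11 * k + 10 * i * j * (11 * 5) = 11 * (k + 50 * i * j) by ring]; simp

/-- the subgroup of normal forms -/
def U : Subgroup G where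
  carrier := {x | ∃ i j k, x = D.el i j k}
  one_mem' := ⟨0, 0, 0, D.el_zero.symm⟩
  mul_mem' := by
    rintro x y ⟨i, j, k, rfl⟩ ⟨l, m, n, rfl⟩
    exact ⟨_, _, _, D.el_mul i j k l m n⟩
  inv_mem' := by
    rintro x ⟨i, j, k, rfl⟩
    refine ⟨_, _, _, (?_ : (D.el i j k)⁻¹ = _).trans (D.el_pow i j k 10)⟩
    rw [inv_eq_iff_mul_eq_one, ← pow_succ']
    exact D.el_pow_eleven i j k

theorem mem_U {x : G} : x ∈ D.U ↔ ∃ i j k, x = D.el i j k := Iff.rfl

theorem a_mem : D.a ∈ D.U := ⟨1, 0, 0, by simp [el]⟩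
theorem b_mem : D.b ∈ D.U := ⟨0, 1, 0, by simp [el]⟩
theorem c_mem : D.c ∈ D.U := ⟨0, 0, 1, by simp [el]⟩

theorem pow_eleven {x : G} (hx : x ∈ D.U) : x ^ 11 = 1 := by
  obtain ⟨i, j, k, rfl⟩ := hx; exact D.el_pow_eleven i j k

theorem orderOf_c : orderOf D.c = 11 := by
  haveI : Fact (Nat.Prime 11) := ⟨by norm_num⟩
  exact orderOf_eq_prime D.hc D.hc1

theorem c_pow_one {k : ℕ} (h : D.c ^ k = 1) : k % 11 = 0 := by
  rw [← orderOf_dvd_iff_pow_eq_one, D.orderOf_c] at h
  omega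

theorem ab_ne : D.a * D.b ≠ D.b * D.a := fun h => by
  have e := D.hba
  rw [← h] at e
  have : D.c ^ 10 = 1 := by
    exact mul_left_cancel (e.symm.trans (mul_one _).symm)
  have := D.c_pow_one this
  omega

theorem el_eq_one {i j k : ℕ} (h : D.el i j k = 1) : i % 11 = 0 ∧ j % 11 = 0 ∧ k % 11 = 0 := by
  have hb : (i + 0) % 11 = (i + 0) % 11 := rfl
  have key : ∀ l m n, D.el i j k * D.el l m n = D.el l m n * D.el i j k := fun l m n => by
    rw [h, one_mul, mul_one]
  have e1 := key 1 0 0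
  have e2 := key 0 1 0
  rw [D.el_mul, D.el_mul] at e1 e2
  have c1 : D.c ^ (k + 0 + 10 * j * 1) = D.c ^ (0 + k + 10 * 0 * i) := by
    unfold el at e1
    rw [Nat.add_comm 1 i, Nat.add_comm 0 j] at e1
    exact mul_left_cancel e1
  have c2 : D.c ^ (k + 0 + 10 * j * 0) = D.c ^ (0 + k + 10 * 1 * i) := by
    unfold el at e2
    rw [Nat.add_comm 0 i, Nat.add_comm 1 j] at e2
    exact mul_left_cancel e2
  rw [pow_eq_pow_iff_modEq, D.orderOf_c] at c1 c2
  have hj : j % 11 = 0 := by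
    unfold Nat.ModEq at c1; omega
  have hi : i % 11 = 0 := by
    unfold Nat.ModEq at c2; omega
  refine ⟨hi, hj, D.c_pow_one ?_⟩
  have := D.el_congr (i := i) (j := j) (k := k) (i' := 0) (j' := 0) (k' := k) (by simpa) (by simpa) rfl
  rw [h] at this
  simpa [el] using this.symm

theorem el_inj {i j k l m n : ℕ} (h : D.el i j k = D.el l m n) :
    i % 11 = l % 11 ∧ j % 11 = m % 11 ∧ k % 11 = n % 11 := by
  have e : D.el i j k * D.el l m n ^ 10 = 1 := by
    rw [h, ← pow_succ', D.el_pow_eleven]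
  rw [D.el_pow, D.el_mul] at e
  obtain ⟨h1, h2, -⟩ := D.el_eq_one e
  have hi : i % 11 = l % 11 := by omega
  have hj : j % 11 = m % 11 := by omega
  refine ⟨hi, hj, ?_⟩
  rw [D.el_congr (k := n) (k' := n) hi.symm hj.symm rfl] at h
  have := mul_left_cancel h
  rw [pow_eq_pow_iff_modEq, D.orderOf_c] at this
  exact this

theorem card_U : Nat.card D.U = 1331 := by
  have : Nat.card (Fin 11 × Fin 11 × Fin 11) = 1331 := by simp
  rw [← this]
  refine (Nat.card_congr (Equiv.ofBijective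
    (fun v : Fin 11 × Fin 11 × Fin 11 =>
      (⟨D.el v.1.1 v.2.1.1 v.2.2.1, _, _, _, rfl⟩ : D.U)) ⟨?_, ?_⟩)).symm
  · rintro ⟨i, j, k⟩ ⟨l, m, n⟩ h
    obtain ⟨h1, h2, h3⟩ := D.el_inj (congrArg Subtype.val h)
    have := i.isLt; have := j.isLt; have := k.isLt; have := l.isLt; have := m.isLt; have := n.isLt
    simp only [Prod.mk.injEq, Fin.ext_iff]
    dsimp only at h1 h2 h3
    omega
  · rintro ⟨x, i, j, k, rfl⟩
    refine ⟨(⟨i % 11, by omega⟩, ⟨j % 11, by omega⟩, ⟨k % 11, by omega⟩), Subtype.ext ?_⟩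
    exact D.el_congr (Nat.mod_mod _ _) (Nat.mod_mod _ _) (Nat.mod_mod _ _)

theorem noncomm : ∃ x ∈ D.U, ∃ y ∈ D.U, x * y ≠ y * x :=
  ⟨D.a, D.a_mem, D.b, D.b_mem, D.ab_ne⟩

theorem extraspecial : Cfsg.IsExtraspecial 11 D.U := by
  haveI : Fact (Nat.Prime 11) := ⟨by norm_num⟩
  haveI : Finite D.U := Nat.finite_of_card_ne_zero (by rw [D.card_U]; norm_num)
  exact H79.extraspecial_of_card_cube (p := 11) (by rw [D.card_U]; norm_num)
    (a := ⟨D.a, D.a_mem⟩) (c := ⟨D.b, D.b_mem⟩) fun h => D.ab_ne (congrArg Subtype.val h)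

theorem exponent_U : Monoid.exponent D.U = 11 := by
  refine ((Nat.dvd_prime (by norm_num)).mp
    (Monoid.exponent_dvd_of_forall_pow_eq_one fun x => Subtype.ext (D.pow_eleven x.2))).resolve_left ?_
  intro h
  have := Monoid.exp_eq_one_iff.mp h
  exact D.hc1 (congrArg Subtype.val (Subsingleton.elim (⟨D.c, D.c_mem⟩ : D.U) 1))

/-- conjugation by an element with known images of the generators -/
theorem conj_el {g : G} {p q r s t u v : ℕ} (ha : g * D.a * g⁻¹ = D.el p q r)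
    (hb : g * D.b * g⁻¹ = D.el s t u) (hc : g * D.c * g⁻¹ = D.el 0 0 v) (i j k : ℕ) :
    ∃ m, g * D.el i j k * g⁻¹ = D.el (i * p + j * s) (i * q + j * t) m := by
  have e : g * D.el i j k * g⁻¹ =
      (g * D.a * g⁻¹) ^ i * (g * D.b * g⁻¹) ^ j * (g * D.c * g⁻¹) ^ k := by
    rw [← MulAut.conj_apply, ← MulAut.conj_apply, ← MulAut.conj_apply, ← MulAut.conj_apply, el,
      map_mul, map_mul, map_pow, map_pow, map_pow]
  rw [e, ha, hb, hc, D.el_pow, D.el_pow, D.el_pow, D.el_mul, D.el_mul]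
  simp only [Nat.mul_zero, add_zero]
  exact ⟨_, rfl⟩

theorem mem_normalizer [Finite G] {g : G} {p q r s t u v : ℕ}
    (ha : g * D.a * g⁻¹ = D.el p q r) (hb : g * D.b * g⁻¹ = D.el s t u)
    (hc : g * D.c * g⁻¹ = D.el 0 0 v) : g ∈ Subgroup.normalizer (D.U : Set G) := by
  have hsub : ∀ x ∈ D.U, g * x * g⁻¹ ∈ D.U := by
    rintro x ⟨i, j, k, rfl⟩
    obtain ⟨m, hm⟩ := D.conj_el ha hb hc i j k
    exact ⟨_, _, _, hm⟩
  have hle : D.U.map (MulAut.conj g).toMonoidHom ≤ D.U := by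
    rintro y ⟨x, hx, rfl⟩; exact hsub x hx
  have heq : D.U.map (MulAut.conj g).toMonoidHom = D.U :=
    Subgroup.eq_of_le_of_card_ge hle
      (Nat.card_congr (D.U.equivMapOfInjective (MulAut.conj g).toMonoidHom
        (MulAut.conj g).injective).toEquiv).le
  rw [Subgroup.mem_normalizer_iff]
  intro x
  refine ⟨hsub x, fun h => ?_⟩
  rw [← heq] at h
  obtain ⟨y, hy, hxy⟩ := h
  have : y = x := (MulAut.conj g).injective hxy
  exact this ▸ hy

theorem nA_mem [Finite G] : D.nA ∈ Subgroup.normalizer (D.U : Set G) :=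
  D.mem_normalizer D.Aa D.Ab D.Ac
theorem nB_mem [Finite G] : D.nB ∈ Subgroup.normalizer (D.U : Set G) :=
  D.mem_normalizer D.Ba D.Bb D.Bc
theorem f_mem [Finite G] : D.f ∈ Subgroup.normalizer (D.U : Set G) :=
  D.mem_normalizer D.fa D.fb D.fc

theorem coset_conj {i j : ℕ} (h : i % 11 ≠ 0 ∨ j % 11 ≠ 0) {k : ℕ}
    (hk : IsConj D.a (D.el i j k)) (n : ℕ) : IsConj D.a (D.el i j n) := by
  have sh : ∀ d : ℕ, IsConj (D.el i j k) (D.el i j (k + 10 * i * d)) := fun d => by
    refine isConj_iff.mpr ⟨D.el 0 d 0, ?_⟩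
    rw [mul_inv_eq_iff_eq_mul, D.el_mul, D.el_mul]
    exact D.el_congr (by simp) (by simp [Nat.add_comm]) (by congr 1; ring)
  have sh' : ∀ d : ℕ, IsConj (D.el i j k) (D.el i j (k + j * d)) := fun d => by
    refine isConj_iff.mpr ⟨D.el d 0 0, ?_⟩
    rw [mul_inv_eq_iff_eq_mul, D.el_mul, D.el_mul]
    refine D.el_congr (by simp [Nat.add_comm]) (by simp) ?_
    rw [show k + j * d + 0 + 10 * j * d = k + 11 * (j * d) by ring]
    simp
  have inv11 : ∀ x : Fin 11, (x : ℕ) ≠ 0 → ∃ y : Fin 11, (x : ℕ) * y % 11 = 1 := by decide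
  rcases h with h | h
  · obtain ⟨y, hy⟩ := inv11 ⟨10 * i % 11, by omega⟩ (by simp only; omega)
    refine hk.trans ?_
    have e := sh (y * (n + 10 * k))
    rwa [D.el_congr (k := k + 10 * i * (y * (n + 10 * k))) (k' := n) rfl rfl] at e
    have : 10 * i * (y * (n + 10 * k)) % 11 = (n + 10 * k) % 11 := by
      rw [← mul_assoc, Nat.mul_mod]
      simp only [Nat.mod_mul_mod] at hy
      rw [hy, one_mul, Nat.mod_mod]
    omega
  · obtain ⟨y, hy⟩ := inv11 ⟨j % 11, by omega⟩ (by simp only; omega)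
    refine hk.trans ?_
    have e := sh' (y * (n + 10 * k))
    rwa [D.el_congr (k := k + j * (y * (n + 10 * k))) (k' := n) rfl rfl] at e
    have : j * (y * (n + 10 * k)) % 11 = (n + 10 * k) % 11 := by
      rw [← mul_assoc, Nat.mul_mod]
      simp only [Nat.mod_mul_mod] at hy
      rw [hy, one_mul, Nat.mod_mod]
    omega

end Data

/-- images of a coset code under the three normalising elements -/
def img (v : ℕ) : List ℕ :=
  [((v / 11 * 1 + v % 11 * 3) % 11) * 11 + (v / 11 * 1 + v % 11 * 2) % 11,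
   ((v / 11 * 10 + v % 11 * 1) % 11) * 11 + (v / 11 * 10 + v % 11 * 0) % 11,
   ((v / 11 * 9 + v % 11 * 0) % 11) * 11 + (v / 11 * 0 + v % 11 * 9) % 11]

/-- one step of the closure -/
def grow (l : List ℕ) : List ℕ := (l ++ l.flatMap img).dedup

/-- iterated closure -/
def reach : ℕ → List ℕ
  | 0 => [11]
  | n + 1 => grow (reach n)

theorem reach_all : ∀ v : Fin 121, (v : ℕ) ≠ 0 → (v : ℕ) ∈ reach 12 := by decide +kernel

namespace Data

variable (D : Data G)

/-- the coset with the given code consists of conjugates of `a` -/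
def Good (v : ℕ) : Prop :=
  (v / 11 % 11 ≠ 0 ∨ v % 11 ≠ 0) ∧ ∀ n, IsConj D.a (D.el (v / 11) (v % 11) n)

theorem good_step {v : ℕ} (hv : D.Good v) {g : G} {p q r s t u w : ℕ}
    (ha : g * D.a * g⁻¹ = D.el p q r) (hb : g * D.b * g⁻¹ = D.el s t u)
    (hc : g * D.c * g⁻¹ = D.el 0 0 w) :
    D.Good ((v / 11 * p + v % 11 * s) % 11 * 11 + (v / 11 * q + v % 11 * t) % 11) := by
  set i := (v / 11 * p + v % 11 * s) % 11
  set j := (v / 11 * q + v % 11 * t) % 11
  obtain ⟨m, hm⟩ := D.conj_el ha hb hc (v / 11) (v % 11) 0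
  have hij : (i * 11 + j) / 11 = i ∧ (i * 11 + j) % 11 = j := by omega
  have hne : i % 11 ≠ 0 ∨ j % 11 ≠ 0 := by
    by_contra hh
    push Not at hh
    have hU : D.el (v / 11 * p + v % 11 * s) (v / 11 * q + v % 11 * t) m = D.el 0 0 m :=
      D.el_congr (by omega) (by omega) rfl
    -- a conjugate of `a` would be central in the group of normal forms
    have hcm : ∀ x ∈ D.U, Commute (D.el 0 0 m) x := by
      rintro x ⟨i', j', k', rfl⟩
      show _ * _ = _ * _
      rw [D.el_mul, D.el_mul]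
      exact D.el_congr (by simp) (by simp) (by simp [Nat.add_comm])
    have hxy : ∀ y ∈ D.U, Commute (D.el (v / 11) (v % 11) 0) y := by
      intro y hy
      obtain ⟨i', j', k', rfl⟩ := hy
      obtain ⟨m', hm'⟩ := D.conj_el ha hb hc i' j' k'
      have := hcm _ ⟨_, _, _, hm'⟩
      rw [← hU, ← hm] at this
      exact (Commute.conj_iff g).mp this
    have c1 := (hxy _ ⟨1, 0, 0, rfl⟩).eq
    have c2 := (hxy _ ⟨0, 1, 0, rfl⟩).eq
    rw [D.el_mul, D.el_mul] at c1 c2
    have := (D.el_inj c1).2.2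
    have := (D.el_inj c2).2.2
    have := hv.1
    omega
  refine ⟨by rw [hij.1, hij.2]; omega, fun n => ?_⟩
  rw [hij.1, hij.2]
  have h0 : IsConj D.a (D.el i j m) := by
    refine (hv.2 0).trans (isConj_iff.mpr ⟨g, hm.trans ?_⟩)
    exact D.el_congr (by omega) (by omega) rfl
  exact D.coset_conj hne h0 n

theorem good_reach : ∀ n, ∀ v ∈ reach n, D.Good v
  | 0 => by
    intro v hv
    simp only [reach, List.mem_singleton] at hv
    subst hv
    exact ⟨by norm_num, fun n => D.coset_conj (k := 0) (Or.inl (by norm_num)) (by simpa [el] using IsConj.refl D.a) n⟩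
  | n + 1 => by
    intro v hv
    simp only [reach, grow, List.mem_dedup, List.mem_append, List.mem_flatMap] at hv
    rcases hv with hv | ⟨w, hw, hv⟩
    · exact good_reach n v hv
    · simp only [img, List.mem_cons, List.not_mem_nil, or_false] at hv
      rcases hv with rfl | rfl | rfl
      · exact D.good_step (good_reach n w hw) D.Aa D.Ab D.Ac
      · exact D.good_step (good_reach n w hw) D.Ba D.Bb D.Bc
      · exact D.good_step (good_reach n w hw) D.fa D.fb D.fc

theorem conj_noncentral {i j : ℕ} (h : i % 11 ≠ 0 ∨ j % 11 ≠ 0) (k : ℕ) :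
    IsConj D.a (D.el i j k) := by
  have hv : i % 11 * 11 + j % 11 < 121 := by omega
  have := (D.good_reach 12 _ (reach_all ⟨_, hv⟩ (by simp only; omega))).2 k
  simp only [show (i % 11 * 11 + j % 11) / 11 = i % 11 by omega,
    show (i % 11 * 11 + j % 11) % 11 = j % 11 by omega] at this
  rwa [D.el_congr (i' := i) (j' := j) (Nat.mod_mod _ _) (Nat.mod_mod _ _) rfl] at this

theorem conj_c_step {k : ℕ} (h : IsConj D.c (D.c ^ k)) :
    IsConj D.c (D.c ^ (4 * k)) ∧ IsConj D.c (D.c ^ (10 * k)) := by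
  have hA : D.nA * D.c * D.nA⁻¹ = D.c ^ 10 := by simpa using D.Ac
  have hf : D.f * D.c * D.f⁻¹ = D.c ^ 4 := by simpa using D.fc
  exact ⟨h.trans (isConj_iff.mpr ⟨D.f, by rw [← conj_pow, hf, ← pow_mul]⟩),
    h.trans (isConj_iff.mpr ⟨D.nA, by rw [← conj_pow, hA, ← pow_mul]⟩)⟩

theorem conj_central {k : ℕ} (h : k % 11 ≠ 0) : IsConj D.c (D.c ^ k) := by
  have step : ∀ {r s : ℕ}, IsConj D.c (D.c ^ r) → 4 * r % 11 = s → IsConj D.c (D.c ^ s) := by
    intro r s hr e
    have := (D.conj_c_step hr).1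
    rwa [pow_eq_pow_mod _ D.hc, e] at this
  have neg : ∀ {r s : ℕ}, IsConj D.c (D.c ^ r) → 10 * r % 11 = s → IsConj D.c (D.c ^ s) := by
    intro r s hr e
    have := (D.conj_c_step hr).2
    rwa [pow_eq_pow_mod _ D.hc, e] at this
  have h1 : IsConj D.c (D.c ^ 1) := by rw [pow_one]
  have h4 := step h1 (s := 4) rfl
  have h5 := step h4 (s := 5) rfl
  have h9 := step h5 (s := 9) rfl
  have h3 := step h9 (s := 3) rfl
  have h10 := neg h1 (s := 10) rfl
  have h7 := neg h4 (s := 7) rfl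
  have h6 := neg h5 (s := 6) rfl
  have h2 := neg h9 (s := 2) rfl
  have h8 := neg h3 (s := 8) rfl
  rw [pow_eq_pow_mod _ D.hc]
  have : k % 11 < 11 := Nat.mod_lt _ (by norm_num)
  interval_cases (k % 11) <;> first | assumption | omega

/-- every element of order eleven of the group is conjugate to `a` or to `c` -/
theorem classes [Finite G] (hndvd : ¬ 11 ^ 4 ∣ Nat.card G) {w : G} (hw : orderOf w = 11) :
    IsConj D.a w ∨ IsConj D.c w := by
  haveI : Fact (Nat.Prime 11) := ⟨by norm_num⟩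
  obtain ⟨S, hS⟩ := (IsPGroup.of_card (p := 11) (n := 3)
    (by rw [D.card_U]; norm_num : Nat.card D.U = 11 ^ 3)).exists_le_sylow
  have hSU : (S : Subgroup G) = D.U := by
    obtain ⟨n, hn⟩ := IsPGroup.iff_card.mp S.isPGroup'
    have hn3 : n ≤ 3 := by
      by_contra hh
      exact hndvd ((pow_dvd_pow 11 (show 4 ≤ n by omega)).trans
        (hn ▸ Subgroup.card_subgroup_dvd_card _))
    exact (Subgroup.eq_of_le_of_card_ge hS
      (by rw [hn, D.card_U]; exact (pow_le_pow_right₀ (by norm_num) hn3).trans (by norm_num))).symm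
  obtain ⟨T, hT⟩ := (IsPGroup.of_card (p := 11) (n := 1)
    (by rw [Nat.card_zpowers, hw, pow_one] : Nat.card (Subgroup.zpowers w) = 11 ^ 1)).exists_le_sylow
  obtain ⟨g, hg⟩ := MulAction.exists_smul_eq G T S
  have hgw : g * w * g⁻¹ ∈ D.U := by
    rw [← hSU, ← hg, Sylow.coe_subgroup_smul, Subgroup.mem_pointwise_smul_iff_inv_smul_mem]
    simpa [MulAut.smul_def, MulAut.conj_inv_apply, mul_assoc] using hT (Subgroup.mem_zpowers w)
  obtain ⟨i, j, k, he⟩ := hgw
  have hcj : IsConj (D.el i j k) w := (isConj_iff.mpr ⟨g, he⟩).symm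
  by_cases h : i % 11 = 0 ∧ j % 11 = 0
  · refine Or.inr (IsConj.trans ?_ hcj)
    have e : D.el i j k = D.c ^ k := by
      rw [D.el_congr (i' := 0) (j' := 0) (by simpa using h.1) (by simpa using h.2) rfl]
      simp [el]
    rw [e]
    refine D.conj_central fun hk => ?_
    have : g * w * g⁻¹ = 1 := by
      rw [he, e, pow_eq_pow_mod _ D.hc, hk, pow_zero]
    have : w = 1 := conj_eq_one_iff.mp this
    rw [this, orderOf_one] at hw
    norm_num at hw
  · exact Or.inl ((D.conj_noncentral (not_and_or.mp h) k).trans hcj)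

/-- transport along an isomorphism -/
def map {H : Type*} [Group H] (e : G ≃* H) : Data H where
  a := e D.a
  b := e D.b
  c := e D.c
  nA := e D.nA
  nB := e D.nB
  f := e D.f
  ha := by rw [← map_pow, D.ha, map_one]
  hb := by rw [← map_pow, D.hb, map_one]
  hc := by rw [← map_pow, D.hc, map_one]
  hc1 := fun h => D.hc1 (e.injective (h.trans (map_one e).symm))
  hca := by rw [← map_mul, D.hca, map_mul]
  hcb := by rw [← map_mul, D.hcb, map_mul]
  hba := by rw [← map_mul, D.hba]; simp only [map_mul, map_pow]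
  Aa := by rw [← map_inv, ← map_mul, ← map_mul, D.Aa]; simp only [map_mul, map_pow]
  Ab := by rw [← map_inv, ← map_mul, ← map_mul, D.Ab]; simp only [map_mul, map_pow]
  Ac := by rw [← map_inv, ← map_mul, ← map_mul, D.Ac]; simp only [map_mul, map_pow]
  Ba := by rw [← map_inv, ← map_mul, ← map_mul, D.Ba]; simp only [map_mul, map_pow]
  Bb := by rw [← map_inv, ← map_mul, ← map_mul, D.Bb]; simp only [map_mul, map_pow]
  Bc := by rw [← map_inv, ← map_mul, ← map_mul, D.Bc]; simp only [map_mul, map_pow]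
  fa := by rw [← map_inv, ← map_mul, ← map_mul, D.fa]; simp only [map_mul, map_pow]
  fb := by rw [← map_inv, ← map_mul, ← map_mul, D.fb]; simp only [map_mul, map_pow]
  fc := by rw [← map_inv, ← map_mul, ← map_mul, D.fc]; simp only [map_mul, map_pow]

end Data

end H68.J4Eleven
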