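import Cfsg.Agent.H54.J4.Rep
import Cfsg.Agent.H93.Coset

/-!
Products and powers of codes evaluated strictly.
-/

set_option autoImplicit false

namespace H68.J4Eleven

open H54.J4.Rep

/-- product of codes on evaluated arguments -/
noncomputable def mulF (a b : ℕ) : ℕ :=
  H93.Coset.force a fun x => H93.Coset.force b fun y => mulC x y

theorem mulF_eq (a b : ℕ) : mulF a b = mulC a b := by
  rw [mulF, H93.Coset.force_eq, H93.Coset.force_eq]

/-- power of a code on evaluated arguments -/
noncomputable def powF (a k : ℕ) : ℕ :=
  Nat.rec (motive := fun _ => ℕ) cI (fun _ acc => mulF acc a) k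

theorem powF_eq (a k : ℕ) : powF a k = powC a k := by
  induction k with
  | zero => rfl
  | succ k ih => show mulF (powF a k) a = mulC (powC a k) a; rw [mulF_eq, ih]

end H68.J4Eleven
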