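import Cfsg.Agent.H68.J4Eleven.Nodes7
import Cfsg.Agent.H68.J4Eleven.TableData
import Cfsg.Agent.H68.J4Eleven.Fast
import Cfsg.Agent.H68.J4Eleven.Ext

/-!
The 11-local certificate in the presented fourth Janko group: an extraspecial group of order `11³`,
a normalising subgroup isomorphic to `GL(2, 3)`, a normalising element of order five, and two
non-conjugate elements of order eleven.
-/

set_option autoImplicit false
set_option maxRecDepth 100000

namespace H68.J4Eleven

open H54.J4.Rep H96.J4Real H26.BitCode Chain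

variable [IsSimpleGroup Cfsg.Spor.J4]

/-- the first generator -/
noncomputable def ga : Cfsg.Spor.J4 := r447.choose
/-- the second generator -/
noncomputable def gb : Cfsg.Spor.J4 := r485.choose
/-- the central generator -/
noncomputable def gc : Cfsg.Spor.J4 := r490.choose
/-- the image of the first generator of `GL(2, 3)` -/
noncomputable def gA : Cfsg.Spor.J4 := r494.choose
/-- the image of the second generator of `GL(2, 3)` -/
noncomputable def gB : Cfsg.Spor.J4 := r502.choose
/-- the element of order five -/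
noncomputable def gf : Cfsg.Spor.J4 := r498.choose

theorem is_a : Is (rho ga) v447 := r447.choose_spec
theorem is_b : Is (rho gb) v485 := r485.choose_spec
theorem is_c : Is (rho gc) v490 := r490.choose_spec
theorem is_A : Is (rho gA) v494 := r494.choose_spec
theorem is_B : Is (rho gB) v502 := r502.choose_spec
theorem is_f : Is (rho gf) v498 := r498.choose_spec

theorem is_mul {g h : Cfsg.Spor.J4} {a b : ℕ} (hg : Is (rho g) a) (hh : Is (rho h) b) :
    Is (rho (g * h)) (mulC a b) := by rw [map_mul]; exact hg.mul hh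

theorem is_pow {g : Cfsg.Spor.J4} {a : ℕ} (hg : Is (rho g) a) (k : ℕ) :
    Is (rho (g ^ k)) (powC a k) := by rw [map_pow]; exact hg.pow k

theorem eq_codes {g h : Cfsg.Spor.J4} {c c' : ℕ} (hg : Is (rho g) c) (hh : Is (rho h) c')
    (e : c = c') : g = h := eq_of_is hg (e ▸ hh)

theorem pow_eq_one {g : Cfsg.Spor.J4} {c k : ℕ} (hg : Is (rho g) c) (e : powF c k = cI) :
    g ^ k = 1 := eq_codes (is_pow hg k) is_one (powF_eq c k ▸ e)

theorem conj_eq {g x a b c : Cfsg.Spor.J4} {cg cx ca cb cc i j k : ℕ} (hg : Is (rho g) cg)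
    (hx : Is (rho x) cx) (ha : Is (rho a) ca) (hb : Is (rho b) cb) (hc : Is (rho c) cc)
    (e : mulF cg cx = mulF (mulF (mulF (powF ca i) (powF cb j)) (powF cc k)) cg) :
    g * x * g⁻¹ = a ^ i * b ^ j * c ^ k := by
  simp only [mulF_eq, powF_eq] at e
  rw [mul_inv_eq_iff_eq_mul]
  exact eq_codes (is_mul hg hx)
    (is_mul (is_mul (is_mul (is_pow ha i) (is_pow hb j)) (is_pow hc k)) hg) e

theorem ne_one {g : Cfsg.Spor.J4} {c : ℕ} (hg : Is (rho g) c) (hlt : c < 2 ^ (112 * 112))
    (hne : c ≠ cI) : g ≠ 1 := by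
  rintro rfl
  exact hne (matC_inj (by norm_num) hlt (by decide +kernel) (hg.symm.trans is_one))

/-- the certificate -/
noncomputable def data : Data Cfsg.Spor.J4 where
  a := ga
  b := gb
  c := gc
  nA := gA
  nB := gB
  f := gf
  ha := pow_eq_one is_a (by decide +kernel)
  hb := pow_eq_one is_b (by decide +kernel)
  hc := pow_eq_one is_c (by decide +kernel)
  hc1 := ne_one is_c (by decide +kernel) (by decide +kernel)
  hca := eq_codes (is_mul is_c is_a) (is_mul is_a is_c) (by decide +kernel)
  hcb := eq_codes (is_mul is_c is_b) (is_mul is_b is_c) (by decide +kernel)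
  hba := eq_codes (is_mul is_b is_a) (is_mul (is_mul is_a is_b) (is_pow is_c 10))
    (by rw [← powF_eq, ← mulF_eq, ← mulF_eq, ← mulF_eq]; decide +kernel)
  Aa := conj_eq is_A is_a is_a is_b is_c (by decide +kernel)
  Ab := conj_eq is_A is_b is_a is_b is_c (by decide +kernel)
  Ac := conj_eq is_A is_c is_a is_b is_c (by decide +kernel)
  Ba := conj_eq is_B is_a is_a is_b is_c (by decide +kernel)
  Bb := conj_eq is_B is_b is_a is_b is_c (by decide +kernel)
  Bc := conj_eq is_B is_c is_a is_b is_c (by decide +kernel)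
  fa := conj_eq is_f is_a is_a is_b is_c (by decide +kernel)
  fb := conj_eq is_f is_b is_a is_b is_c (by decide +kernel)
  fc := conj_eq is_f is_c is_a is_b is_c (by decide +kernel)

theorem gf_order : orderOf gf = 5 := by
  haveI : Fact (Nat.Prime 5) := ⟨by norm_num⟩
  exact orderOf_eq_prime (pow_eq_one is_f (by decide +kernel))
    (ne_one is_f (by decide +kernel) (by decide +kernel))

/-- the trace of a code -/
def trC (c : ℕ) : ZMod 2 := ∑ i : Fin 112, b2 (cbit 112 c i.val i.val)

theorem trace_eq {g : Cfsg.Spor.J4} {c : ℕ} (hg : Is (rho g) c) :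
    Matrix.trace ((rho g : Matˣ) : Mat) = trC c := by
  rw [hg]; rfl

theorem not_conj_ac : ¬ IsConj data.a data.c := by
  intro h
  obtain ⟨g, hg⟩ := isConj_iff.mp h
  have e := congrArg (fun u : Cfsg.Spor.J4 => Matrix.trace ((rho u : Matˣ) : Mat)) hg
  simp only [map_mul, map_inv, Units.val_mul, Matrix.trace_units_conj] at e
  change Matrix.trace ((rho ga : Matˣ) : Mat) = Matrix.trace ((rho gc : Matˣ) : Mat) at e
  rw [trace_eq is_a, trace_eq is_c] at e
  exact absurd e (by decide +kernel : trC v447 ≠ trC v490)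

open Tab

/-- product of entry codes of matrices over three elements -/
def mul3 (n m : ℕ) : ℕ :=
  27 * ((n / 27 * (m / 27) + n / 9 % 3 * (m / 3 % 3)) % 3) +
    9 * ((n / 27 * (m / 9 % 3) + n / 9 % 3 * (m % 3)) % 3) +
    3 * ((n / 3 % 3 * (m / 27) + n % 3 * (m / 3 % 3)) % 3) +
    (n / 3 % 3 * (m / 9 % 3) + n % 3 * (m % 3)) % 3

/-- the entry codes of invertible matrices -/
def nonsing (n : ℕ) : Bool := (n / 27 * (n % 3) + 2 * (n / 9 % 3) * (n / 3 % 3)) % 3 != 0

theorem code_one : code 28 = cI := by decide +kernel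

theorem step_A : ∀ n : Fin 81, nonsing n = true →
    mulC (code n) v494 = code (mul3 n 13) := by decide +kernel

theorem step_B : ∀ n : Fin 81, nonsing n = true →
    mulC (code n) v502 = code (mul3 n 37) := by decide +kernel

theorem code_inj : ∀ n : Fin 81, nonsing n = true →
    code n < 2 ^ (112 * 112) ∧ (code n = cI → (n : ℕ) = 28) := by decide +kernel

end H68.J4Eleven
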