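import Cfsg.Agent.H54.J4.Rep
import Cfsg.Agent.H96.J4Real

/-!
Codes of elements in the 112-dimensional representation of the presented fourth Janko group.
-/

set_option autoImplicit false
set_option maxRecDepth 100000

namespace H68.J4Eleven

open H54.J4.Rep H96.J4Real H26.BitCode

/-- the code of an element of the image -/
def InR (c : ℕ) : Prop := ∃ g : Cfsg.Spor.J4, Is (rho g) c

theorem inR_x : InR cX := ⟨PresentedGroup.of Cfsg.Spor.J4.Gen.x, by rw [rho_x]; exact isX⟩

theorem inR_y : InR cY :=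
  ⟨PresentedGroup.of Cfsg.Spor.J4.Gen.y, by
    rw [show rho (PresentedGroup.of Cfsg.Spor.J4.Gen.y) = uY from PresentedGroup.toGroup.of rels_hold]
    exact isY⟩

theorem inR_t : InR cT :=
  ⟨PresentedGroup.of Cfsg.Spor.J4.Gen.t, by
    rw [show rho (PresentedGroup.of Cfsg.Spor.J4.Gen.t) = uT from PresentedGroup.toGroup.of rels_hold]
    exact isT⟩

theorem InR.mul {a b c : ℕ} (ha : InR a) (hb : InR b) (h : mulC a b = c) : InR c := by
  obtain ⟨g, hg⟩ := ha
  obtain ⟨k, hk⟩ := hb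
  exact ⟨g * k, by rw [map_mul, ← h]; exact hg.mul hk⟩

theorem InR.inv {a c : ℕ} (ha : InR a) (h : mulC a c = cI) : InR c := by
  obtain ⟨g, hg⟩ := ha
  refine ⟨g⁻¹, ?_⟩
  show ((rho g⁻¹ : Matˣ) : Mat) = matC 112 c
  have e : ((rho g : Matˣ) : Mat) * matC 112 c = 1 := by rw [hg, ← matC_mulC, h, matC_cI]
  rw [map_inv]
  exact ((rho g).mul_eq_one_iff_inv_eq.mp e)

theorem is_one : Is (rho 1) cI := by
  show ((rho 1 : Matˣ) : Mat) = matC 112 cI
  rw [map_one, Units.val_one, matC_cI]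

theorem inR_one : InR cI := ⟨1, is_one⟩

theorem eq_of_is {g h : Cfsg.Spor.J4} [IsSimpleGroup Cfsg.Spor.J4] {c : ℕ} (hg : Is (rho g) c)
    (hh : Is (rho h) c) : g = h :=
  rho_injective (Units.ext (hg.trans hh.symm))

end H68.J4Eleven
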