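import Cfsg.Agent.H68.J4Eleven.Cert

/-!
The subgroup isomorphic to `GL(2, 3)` normalising the extraspecial group of order `11³`.
-/

set_option autoImplicit false
set_option maxRecDepth 100000

namespace H68.J4Eleven

open H54.J4.Rep H96.J4Real H26.BitCode Chain Tab

variable [IsSimpleGroup Cfsg.Spor.J4]

/-- matrices over three elements -/
abbrev M3 : Type := Matrix (Fin 2) (Fin 2) (ZMod 3)

/-- the entry code -/
def enc (M : M3) : ℕ :=
  27 * (M 0 0).val + 9 * (M 0 1).val + 3 * (M 1 0).val + (M 1 1).val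

theorem enc_lt (M : M3) : enc M < 81 := by
  have := (M 0 0).val_lt; have := (M 0 1).val_lt
  have := (M 1 0).val_lt; have := (M 1 1).val_lt
  unfold enc; omega

theorem enc_inj {M N : M3} (h : enc M = enc N) : M = N := by
  have := (M 0 0).val_lt; have := (M 0 1).val_lt
  have := (M 1 0).val_lt; have := (M 1 1).val_lt
  have := (N 0 0).val_lt; have := (N 0 1).val_lt
  have := (N 1 0).val_lt; have := (N 1 1).val_lt
  unfold enc at h
  ext i j
  apply ZMod.val_injective
  fin_cases i <;> fin_cases j <;>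
    simp only [Fin.zero_eta, Fin.mk_one, Fin.isValue] <;> omega

theorem enc_mul (M N : M3) : enc (M * N) = mul3 (enc M) (enc N) := by
  have key : ∀ a b c d e f g h : ZMod 3,
      27 * (a * e + b * g).val + 9 * (a * f + b * h).val + 3 * (c * e + d * g).val +
        (c * f + d * h).val =
      mul3 (27 * a.val + 9 * b.val + 3 * c.val + d.val) (27 * e.val + 9 * f.val + 3 * g.val + h.val) := by
    decide +kernel
  simp only [enc, Matrix.mul_apply, Fin.sum_univ_two]
  exact key _ _ _ _ _ _ _ _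

theorem nonsing_enc (M : GL (Fin 2) (ZMod 3)) : nonsing (enc (M : M3)) = true := by
  have key : ∀ a b c d : ZMod 3, a * d - b * c ≠ 0 →
      nonsing (27 * a.val + 9 * b.val + 3 * c.val + d.val) = true := by decide +kernel
  apply key
  have h := (Matrix.isUnit_iff_isUnit_det (M : M3)).mp (Units.isUnit M)
  rw [Matrix.det_fin_two] at h
  exact h.ne_zero

/-- the first generator -/
def sA : GL (Fin 2) (ZMod 3) :=
  ⟨!![0, 1; 1, 1], !![2, 1; 1, 0], by decide +kernel, by decide +kernel⟩

/-- the second generator -/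
def sB : GL (Fin 2) (ZMod 3) :=
  ⟨!![1, 1; 0, 1], !![1, 2; 0, 1], by decide +kernel, by decide +kernel⟩

theorem enc_sA : enc (sA : M3) = 13 := by decide +kernel
theorem enc_sB : enc (sB : M3) = 37 := by decide +kernel

/-- one step of the closure from the identity -/
def grow3 (l : List ℕ) : List ℕ := (l ++ l.map (mul3 · 13) ++ l.map (mul3 · 37)).dedup

/-- iterated closure from the identity -/
def reach3 : ℕ → List ℕ
  | 0 => [28]
  | n + 1 => grow3 (reach3 n)

theorem reach3_all : ∀ n : Fin 81, nonsing n = true → (n : ℕ) ∈ reach3 9 := by decide +kernel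

/-- products of the two generators -/
def gens : Submonoid (GL (Fin 2) (ZMod 3)) := Submonoid.closure {sA, sB}

theorem mem_reach3 : ∀ k, ∀ n ∈ reach3 k, ∃ g ∈ gens, enc (g : M3) = n
  | 0 => by
    intro n hn
    simp only [reach3, List.mem_singleton] at hn
    exact ⟨1, one_mem _, by subst hn; decide +kernel⟩
  | k + 1 => by
    intro n hn
    simp only [reach3, grow3, List.mem_dedup, List.mem_append, List.mem_map] at hn
    rcases hn with (hn | ⟨m, hm, rfl⟩) | ⟨m, hm, rfl⟩
    · exact mem_reach3 k n hn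
    · obtain ⟨g, hg, rfl⟩ := mem_reach3 k m hm
      exact ⟨g * sA, mul_mem hg (Submonoid.subset_closure (by simp)),
        by rw [Units.val_mul, enc_mul, enc_sA]⟩
    · obtain ⟨g, hg, rfl⟩ := mem_reach3 k m hm
      exact ⟨g * sB, mul_mem hg (Submonoid.subset_closure (by simp)),
        by rw [Units.val_mul, enc_mul, enc_sB]⟩

theorem gens_top (g : GL (Fin 2) (ZMod 3)) : g ∈ gens := by
  obtain ⟨h, hh, he⟩ := mem_reach3 9 _ (reach3_all ⟨_, enc_lt (g : M3)⟩ (nonsing_enc g))
  rwa [← Units.ext (enc_inj he)]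

/-- the code of the image -/
def cd (g : GL (Fin 2) (ZMod 3)) : ℕ := code (enc (g : M3))

theorem cd_one : cd 1 = cI := by
  rw [cd, show enc ((1 : GL (Fin 2) (ZMod 3)) : M3) = 28 by decide +kernel, code_one]

theorem cd_mul_A (g : GL (Fin 2) (ZMod 3)) : mulC (cd g) v494 = cd (g * sA) := by
  rw [cd, cd, Units.val_mul, enc_mul, enc_sA]
  exact step_A ⟨_, enc_lt (g : M3)⟩ (nonsing_enc g)

theorem cd_mul_B (g : GL (Fin 2) (ZMod 3)) : mulC (cd g) v502 = cd (g * sB) := by
  rw [cd, cd, Units.val_mul, enc_mul, enc_sB]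
  exact step_B ⟨_, enc_lt (g : M3)⟩ (nonsing_enc g)

/-- elements with an image given by right multiplication of codes -/
def Rep (s : GL (Fin 2) (ZMod 3)) : Prop :=
  ∃ x ∈ Subgroup.closure ({gA, gB} : Set Cfsg.Spor.J4),
    ∀ g (y : Cfsg.Spor.J4), Is (rho y) (cd g) → Is (rho (y * x)) (cd (g * s))

theorem rep_all (s : GL (Fin 2) (ZMod 3)) : Rep s := by
  refine Submonoid.closure_induction (motive := fun s _ => Rep s) ?_ ?_ ?_ (gens_top s)
  · rintro t (rfl | rfl)
    · exact ⟨gA, Subgroup.subset_closure (by simp),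
        fun g y hy => cd_mul_A g ▸ is_mul hy is_A⟩
    · exact ⟨gB, Subgroup.subset_closure (by simp),
        fun g y hy => cd_mul_B g ▸ is_mul hy is_B⟩
  · exact ⟨1, one_mem _, fun g y hy => by rwa [mul_one, mul_one]⟩
  · rintro a b - - ⟨x, hx, h1⟩ ⟨x', hx', h2⟩
    refine ⟨x * x', mul_mem hx hx', fun g y hy => ?_⟩
    rw [← mul_assoc, ← mul_assoc]
    exact h2 _ _ (h1 g y hy)

/-- the image of a matrix -/
noncomputable def psi (s : GL (Fin 2) (ZMod 3)) : Cfsg.Spor.J4 := (rep_all s).choose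

theorem psi_mem (s : GL (Fin 2) (ZMod 3)) :
    psi s ∈ Subgroup.closure ({gA, gB} : Set Cfsg.Spor.J4) := (rep_all s).choose_spec.1

theorem is_psi (s : GL (Fin 2) (ZMod 3)) : Is (rho (psi s)) (cd s) := by
  have h := (rep_all s).choose_spec.2 1 1 (cd_one ▸ is_one)
  rwa [one_mul, one_mul] at h

/-- the embedding -/
noncomputable def embGL : GL (Fin 2) (ZMod 3) →* Cfsg.Spor.J4 :=
  MonoidHom.mk' psi fun a b => eq_of_is (is_psi (a * b))
    ((rep_all b).choose_spec.2 a (psi a) (is_psi a))

theorem embGL_inj : Function.Injective embGL := by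
  rw [injective_iff_map_eq_one]
  intro g hg
  have h := is_psi g
  rw [show psi g = 1 from hg] at h
  obtain ⟨hlt, hone⟩ := code_inj ⟨_, enc_lt (g : M3)⟩ (nonsing_enc g)
  have e : cd g = cI := matC_inj (by norm_num) hlt (by decide +kernel) (h.symm.trans is_one)
  refine Units.ext (enc_inj ((hone e).trans ?_))
  decide +kernel

theorem exists_gl_sub [Finite Cfsg.Spor.J4] : ∃ K : Subgroup Cfsg.Spor.J4,
    K ≤ Subgroup.normalizer (data.U : Set Cfsg.Spor.J4) ∧
      Nonempty (↥K ≃* GL (Fin 2) (ZMod 3)) := by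
  refine ⟨embGL.range, ?_, ⟨(MonoidHom.ofInjective embGL_inj).symm⟩⟩
  rintro x ⟨g, rfl⟩
  refine (Subgroup.closure_le _).mpr ?_ (psi_mem g)
  rintro y (rfl | rfl)
  · exact data.nA_mem
  · exact data.nB_mem

end H68.J4Eleven
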