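import Cfsg.Agent.H68.J4Eleven.GL23
import Cfsg.Agent.H4.J4Eleven
import Cfsg.Prelude.Def_JankoFourType

/-!
The Sylow 11-subgroups and the classes of elements of order 11 in a group of Janko-four type, from
an isomorphism with the presented fourth Janko group.
-/

set_option autoImplicit false
set_option maxRecDepth 100000

namespace H68.J4Eleven

variable {G : Type*} [Group G] [Finite G] [IsSimpleGroup G]

theorem not_dvd {G : Type*} (h : Nat.card G = 86775571046077562880) :
    ¬ 11 ^ 4 ∣ Nat.card G := by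
  rw [h]; norm_num

theorem sylow_eleven (hG : ¬ IsMulCommutative G) (hJ : Cfsg.IsOfJankoFourType G)
    (e : G ≃* Cfsg.Spor.J4) (hcard : Nat.card G = 86775571046077562880) (U : Sylow 11 G) :
    Cfsg.IsExtraspecial 11 ↥(U : Subgroup G) ∧ Nat.card ↥(U : Subgroup G) = 11 ^ 3 ∧
      Monoid.exponent ↥(U : Subgroup G) = 11 ∧
      Nat.card ↥(Subgroup.normalizer ((U : Subgroup G) : Set G)) = 2 ^ 4 * 3 * 5 * 11 ^ 3 ∧
      ∃ K : Subgroup G, K ≤ Subgroup.normalizer ((U : Subgroup G) : Set G) ∧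
        Nonempty (↥K ≃* GL (Fin 2) (ZMod 3)) := by
  haveI : IsSimpleGroup Cfsg.Spor.J4 := e.symm.isSimpleGroup
  haveI : Finite Cfsg.Spor.J4 := Finite.of_equiv G e.toEquiv
  haveI : Fact (Nat.Prime 11) := ⟨by norm_num⟩
  set D : Data G := data.map e.symm with hD
  have hU : (data.U.map e.symm.toMonoidHom : Subgroup G) = D.U := by
    ext x
    constructor
    · rintro ⟨y, ⟨i, j, k, rfl⟩, rfl⟩
      exact ⟨i, j, k, by simp [Data.el, hD, Data.map]⟩
    · rintro ⟨i, j, k, rfl⟩
      exact ⟨data.el i j k, ⟨i, j, k, rfl⟩, by simp [Data.el, hD, Data.map]⟩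
  obtain ⟨K₀, hK₀, ⟨e₀⟩⟩ := exists_gl_sub
  have hK : K₀.map e.symm.toMonoidHom ≤ Subgroup.normalizer (D.U : Set G) := by
    rintro _ ⟨x, hx, rfl⟩
    rw [← hU]
    exact Subgroup.le_normalizer_map (H := data.U) e.symm.toMonoidHom ⟨x, hK₀ hx, rfl⟩
  have eK : ↥(K₀.map e.symm.toMonoidHom) ≃* GL (Fin 2) (ZMod 3) :=
    (K₀.equivMapOfInjective _ e.symm.injective).symm.trans e₀
  have hf : orderOf D.f = 5 := (MulEquiv.orderOf_eq e.symm _).trans gf_order
  have hN := H4.J4Eleven.card_normalizer hG hJ hcard D.U D.card_U D.noncomm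
    (fun x hx => D.pow_eleven hx) (K₀.map e.symm.toMonoidHom) hK ⟨eK⟩ D.f hf D.f_mem
  -- the given subgroup is a Sylow subgroup and every Sylow subgroup is conjugate to it
  obtain ⟨S, hS⟩ := (IsPGroup.of_card (p := 11) (n := 3)
    (by rw [D.card_U]; norm_num : Nat.card D.U = 11 ^ 3)).exists_le_sylow
  have hSU : (S : Subgroup G) = D.U := by
    obtain ⟨n, hn⟩ := IsPGroup.iff_card.mp S.isPGroup'
    have hn3 : n ≤ 3 := by
      by_contra hh
      exact not_dvd hcard ((pow_dvd_pow 11 (show 4 ≤ n by omega)).trans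
        (hn ▸ Subgroup.card_subgroup_dvd_card _))
    exact (Subgroup.eq_of_le_of_card_ge hS
      (by rw [hn, D.card_U]; exact (pow_le_pow_right₀ (by norm_num) hn3).trans (by norm_num))).symm
  obtain ⟨g, hg⟩ := MulAction.exists_smul_eq G S U
  let φ : G ≃* G := MulAut.conj g
  have hUg : (U : Subgroup G) = D.U.map φ.toMonoidHom := by
    rw [← hg, Sylow.coe_subgroup_smul, hSU]; rfl
  have eU : ↥D.U ≃* ↥(U : Subgroup G) :=
    (D.U.equivMapOfInjective φ.toMonoidHom φ.injective).trans (MulEquiv.subgroupCongr hUg.symm)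
  have hnorm : Subgroup.normalizer ((U : Subgroup G) : Set G) =
      (Subgroup.normalizer (D.U : Set G)).map φ.toMonoidHom := by
    rw [hUg]
    exact (Subgroup.map_equiv_normalizer_eq D.U φ).symm
  have hc : Nat.card ↥(U : Subgroup G) = 11 ^ 3 := by
    rw [← Nat.card_congr eU.toEquiv, D.card_U]; norm_num
  haveI : Finite ↥(U : Subgroup G) := inferInstance
  refine ⟨H79.extraspecial_of_card_cube (p := 11) hc
      (a := eU ⟨D.a, D.a_mem⟩) (c := eU ⟨D.b, D.b_mem⟩) ?_, hc,
    by rw [← Monoid.exponent_eq_of_mulEquiv eU, D.exponent_U], ?_,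
    (K₀.map e.symm.toMonoidHom).map φ.toMonoidHom, ?_,
    ⟨((K₀.map e.symm.toMonoidHom).equivMapOfInjective _ φ.injective).symm.trans eK⟩⟩
  · rw [← map_mul, ← map_mul]
    exact fun h => D.ab_ne (congrArg Subtype.val (eU.injective h))
  · rw [hnorm, Subgroup.card_map_of_injective φ.injective, hN]
  · rw [hnorm]; exact Subgroup.map_mono hK

theorem two_classes_eleven (e : G ≃* Cfsg.Spor.J4)
    (hcard : Nat.card G = 86775571046077562880) :
    ∃ x y : G, orderOf x = 11 ∧ orderOf y = 11 ∧ ¬ IsConj x y ∧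
      ∀ w : G, orderOf w = 11 → IsConj w x ∨ IsConj w y := by
  haveI : IsSimpleGroup Cfsg.Spor.J4 := e.symm.isSimpleGroup
  haveI : Fact (Nat.Prime 11) := ⟨by norm_num⟩
  set D : Data G := data.map e.symm with hD
  refine ⟨D.a, D.c, orderOf_eq_prime D.ha (fun h => D.ab_ne (by rw [h, one_mul, mul_one])),
    D.orderOf_c, ?_, fun w hw => ?_⟩
  · intro h
    apply not_conj_ac
    have := MonoidHom.map_isConj e.toMonoidHom h
    simpa [hD, Data.map] using this
  · rcases D.classes (not_dvd hcard) hw with h | h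
    · exact Or.inl h.symm
    · exact Or.inr h.symm

end H68.J4Eleven
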