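import Cfsg.Agent.H68.J4Eleven.Main
import Cfsg.Agent.H69.J4.Surjection

/-!
The statements on elements and subgroups of 11-power order in groups of Janko-four type, from a
nontrivial homomorphism of the presented fourth Janko group.
-/

set_option autoImplicit false

namespace H68.J4Eleven

open Cfsg.Agent.H69.J4 in
theorem sylow_row {G : Type*} [Group G] [Finite G] [IsSimpleGroup G] (hG : ¬ IsMulCommutative G)
    (hJ : Cfsg.IsOfJankoFourType G) (hS : SurjData G) (U : Sylow 11 G) :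
    Cfsg.IsExtraspecial 11 ↥(U : Subgroup G) ∧ Nat.card ↥(U : Subgroup G) = 11 ^ 3 ∧
      Monoid.exponent ↥(U : Subgroup G) = 11 ∧
      Nat.card ↥(Subgroup.normalizer ((U : Subgroup G) : Set G)) = 2 ^ 4 * 3 * 5 * 11 ^ 3 ∧
      ∃ K : Subgroup G, K ≤ Subgroup.normalizer ((U : Subgroup G) : Set G) ∧
        Nonempty (↥K ≃* GL (Fin 2) (ZMod 3)) := by
  obtain ⟨⟨e⟩, hI⟩ := isoJ4_of_surj hG hJ hS
  exact sylow_eleven hG hJ e hI.2 U

open Cfsg.Agent.H69.J4 in
theorem classes_row {G : Type*} [Group G] [Finite G] [IsSimpleGroup G] (hG : ¬ IsMulCommutative G)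
    (hJ : Cfsg.IsOfJankoFourType G) (hS : SurjData G) :
    ∃ x y : G, orderOf x = 11 ∧ orderOf y = 11 ∧ ¬ IsConj x y ∧
      ∀ w : G, orderOf w = 11 → IsConj w x ∨ IsConj w y := by
  obtain ⟨⟨e⟩, hI⟩ := isoJ4_of_surj hG hJ hS
  exact two_classes_eleven e hI.2

end H68.J4Eleven
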